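import Cfsg.Agent.H226.EX.Glue
import Cfsg.Agent.H168.EP.AltNum
import Cfsg.Agent.H226.AltNine

/-!
# S5745, `E₇(2)`: the rows `T = PSp₆(3)`, `Ω₇(3)` and `A₁₃` (helper226)
-/

set_option autoImplicit false

namespace Cfsg.Agent.H226.EX

open Subgroup Cfsg.Agent.H284 Cfsg.Agent.H209.EPX Cfsg.Agent.H59.EP Cfsg.Agent.H419.EP

variable {G : Type} [Group G] [Finite G] [IsSimpleGroup G] {H N : Subgroup G} {T : Type} [Group T]

/-- `|T| = |PSp₆(3)| = |Ω₇(3)|`, `|Aut T|` divides `2 |T|` -/
theorem e7q2_card (hg : TwoGen.{0}) (hG : Nat.card G = 7997476042075799759100487262680802918400)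
    {e : N ≃* (Fin 1 → T)} (h : EPS H N e) (hT : Nat.card T = 4585351680)
    (hA : Nat.card (MulAut T) ∣ 9170703360) : False := by
  have hfin : Finite T := Nat.finite_of_card_ne_zero (by rw [hT]; norm_num)
  have h1 : Nat.card H ∣ 9170703360 := (card_dvd_aut h).trans hA
  have h2 : 4585351680 ∣ Nat.card H := hT ▸ dvd_card h
  have h3 : Nat.card H = 4585351680 ∨ Nat.card H = 9170703360 := by
    obtain ⟨a, ha⟩ := h2
    rw [ha] at h1 ⊢
    have h4 : a ∣ 2 := by
      have : 4585351680 * a ∣ 4585351680 * 2 := by simpa using h1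
      exact (Nat.mul_dvd_mul_iff_left (by norm_num)).1 this
    rcases (Nat.dvd_prime Nat.prime_two).1 h4 with h5 | h5
    · left; rw [h5]
    · right; rw [h5]
  have h6 := H.card_mul_index
  rw [hG] at h6
  rcases h3 with h3 | h3
  · have h7 := index_le_of_eps hg h [(2, 9), (3, 9), (5, 1), (7, 1), (13, 1)] (by norm_num) (by decide) (by decide)
      (by rw [h3]; norm_num)
    have h8 : (([(2, 9), (3, 9), (5, 1), (7, 1), (13, 1)] : List (ℕ × ℕ)).map fun x => gal x.1 x.2).sum = 13729512547 := by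
      decide +kernel
    rw [h8, h3] at h7
    rw [h3] at h6
    norm_num at h7
    omega
  · have h7 := index_le_of_eps hg h [(2, 10), (3, 9), (5, 1), (7, 1), (13, 1)] (by norm_num) (by decide) (by decide)
      (by rw [h3]; norm_num)
    have h8 : (([(2, 10), (3, 9), (5, 1), (7, 1), (13, 1)] : List (ℕ × ℕ)).map fun x => gal x.1 x.2).sum = 13950984694 := by
      decide +kernel
    rw [h8, h3] at h7
    rw [h3] at h6
    norm_num at h7
    omega

/-- `T = A₁₃` -/
theorem e7q2_alt13 (hg : TwoGen.{0}) (hG : Nat.card G = 7997476042075799759100487262680802918400)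
    {e : N ≃* (Fin 1 → T)} (h : EPS H N e) (i : T ≃* alternatingGroup (Fin 13)) : False := by
  have h1 := Cfsg.Agent.H168.EP.index_alt13_of hg inferInstance (ept_of_eps h) ((hasSoc_of_eps h).congr i)
  have hfin : Finite T := Finite.of_equiv _ i.symm.toEquiv
  have h2 : Nat.card H ≤ 6227020800 := by
    have h3 := (hasSoc_of_eps h).card_le
    rwa [Nat.card_congr (MulAut.congr i).toEquiv, Cfsg.Agent.H226.AltNine.card_aut_alt 13 (by norm_num) (by norm_num),
      show (13 : ℕ).factorial = 6227020800 by decide] at h3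
  have h3 := H.card_mul_index
  rw [hG] at h3
  have h4 : Nat.card H * H.index ≤ 6227020800 * (2 * 10 ^ 27) := Nat.mul_le_mul h2 h1.le
  rw [h3] at h4
  norm_num at h4

end Cfsg.Agent.H226.EX
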