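import Cfsg.Agent.H209.EPX.Defs
import Cfsg.Agent.H59.EP.UB
import Cfsg.Agent.H173.EP.LineBound
import Cfsg.Agent.H419.EP.Soc

/-!
# S5745: `EPS H N e` (`k = 1`) ⇒ `EPT H _`, `HasSoc H T`; the index bound without the cube term (helper226)

`TwoGen` stays a hypothesis (`Cfsg.Agent.H59.EP.twoGen` of `H59/EP/UBFin.lean` discharges it).
-/

set_option autoImplicit false

namespace Cfsg.Agent.H226.EX

open Subgroup Cfsg.Agent.H284 Cfsg.Agent.H209.EPX Cfsg.Agent.H59.EP Cfsg.Agent.H419.EP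

variable {G : Type*} [Group G] {H N : Subgroup G} {T : Type} [Group T]

theorem not_comm_of_eps {k : ℕ} {e : N ≃* (Fin k → T)} (h : EPS H N e) : ¬ ∀ a b : G, a * b = b * a := by
  intro hc
  have h1 := h.cent
  have : N = ⊥ := by
    rw [eq_bot_iff, ← h1]
    intro x _
    rw [Subgroup.mem_centralizer_iff]
    intro y _
    exact hc _ _
  exact h.ne this

/-- `EPT` of an `EPS` -/
theorem ept_of_eps [Finite G] [hs0 : IsSimpleGroup G] {k : ℕ} {e : N ≃* (Fin k → T)} (h : EPS H N e) :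
    EPT H (H.map (MulAut.conj : G →* MulAut G)) := by
  have hcomm := not_comm_of_eps h
  have hs : IsSimpleGroup (⊤ : Subgroup G) := (Subgroup.topEquiv (G := G)).isSimpleGroup
  have hcent : Subgroup.centralizer ((⊤ : Subgroup G) : Set G) = ⊥ := by
    have h1 : Subgroup.centralizer ((⊤ : Subgroup G) : Set G) = center G := by
      rw [Subgroup.coe_top, Subgroup.centralizer_univ]
    rw [h1]
    rcases (inferInstance : (center G).Normal).eq_bot_or_eq_top with h2 | h2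
    · exact h2
    · exfalso
      apply hcomm
      intro a b
      have : b ∈ center G := by rw [h2]; exact mem_top _
      exact (mem_center_iff.1 this a)
  have hsol : Group.IsSolvable (G ⧸ (⊤ : Subgroup G)) := by
    have : Subsingleton (G ⧸ (⊤ : Subgroup G)) := QuotientGroup.subsingleton_quotient_top
    infer_instance
  have h1 := h.ep.toEPT (T := ⊤) (Subgroup.topEquiv (G := G)) hs
    (fun h2 => hcomm fun a b => h2 a (mem_top _) b (mem_top _)) hcent hsol
  have e1 : TA (Subgroup.topEquiv (G := G)) H = H := by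
    ext q
    rfl
  have e2 : toAut (Subgroup.topEquiv (G := G)) = (MulAut.conj : G →* MulAut G) := by
    ext g q
    have := toG_toAut (Subgroup.topEquiv (G := G)) g q
    exact this
  rw [e1, e2] at h1
  exact h1

/-- no abelian normal subgroup -/
theorem hab_of_eps {k : ℕ} {e : N ≃* (Fin k → T)} (h : EPS H N e) :
    ∀ K : Subgroup G, K ≤ H → (∀ a ∈ H, ∀ k ∈ K, a * k * a⁻¹ ∈ K) → (∀ a ∈ K, ∀ b ∈ K, a * b = b * a) → K = ⊥ := by
  intro K hK hKn hKab
  by_contra hne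
  have h1 := h.least K ⟨hK, hKn⟩ hne
  obtain ⟨a, b, hab⟩ := h.nab
  apply hab
  have : (Pi.mulSingle (⟨0, h.pos⟩ : Fin k) a : Fin k → T) * Pi.mulSingle ⟨0, h.pos⟩ b =
      Pi.mulSingle ⟨0, h.pos⟩ b * Pi.mulSingle ⟨0, h.pos⟩ a := by
    have h2 := hKab _ (h1 (e.symm (Pi.mulSingle ⟨0, h.pos⟩ a)).2) _ (h1 (e.symm (Pi.mulSingle ⟨0, h.pos⟩ b)).2)
    have h3 : e.symm (Pi.mulSingle (⟨0, h.pos⟩ : Fin k) a) * e.symm (Pi.mulSingle ⟨0, h.pos⟩ b) =
        e.symm (Pi.mulSingle ⟨0, h.pos⟩ b) * e.symm (Pi.mulSingle ⟨0, h.pos⟩ a) := Subtype.ext h2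
    have h4 := congrArg e h3
    simpa using h4
  have h5 := congrFun this ⟨0, h.pos⟩
  simpa using h5

/-- `k = 1`: `H` has socle `T` -/
theorem hasSoc_of_eps {e : N ≃* (Fin 1 → T)} (h : EPS H N e) : HasSoc H T := by
  refine ⟨N, h.le, h.nrm, ?_, ⟨e.trans ⟨Equiv.funUnique (Fin 1) T, fun _ _ => rfl⟩⟩⟩
  intro a _ hc
  have h1 : a ∈ Subgroup.centralizer (N : Set G) := by
    rw [Subgroup.mem_centralizer_iff]
    intro n hn
    exact (hc n hn).symm
  rw [h.cent, mem_bot] at h1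
  exact h1

/-- `|H|` divides `|Aut T|` (`k = 1`) -/
theorem card_dvd_aut [Finite T] {e : N ≃* (Fin 1 → T)} (h : EPS H N e) : Nat.card H ∣ Nat.card (MulAut T) := by
  obtain ⟨f, hf⟩ := (hasSoc_of_eps h).exists_hom
  exact Subgroup.card_dvd_of_injective f hf

/-- `|T|` divides `|H|` (`k = 1`) -/
theorem dvd_card {e : N ≃* (Fin 1 → T)} (h : EPS H N e) : Nat.card T ∣ Nat.card H := (hasSoc_of_eps h).card_dvd

/-- **the index bound without the cube term**: every prime `≥ 5` divides `|H|` at most once -/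
theorem index_le_of_eps (hg : TwoGen.{0}) {G : Type} [Group G] [Finite G] [IsSimpleGroup G]
    {H N : Subgroup G} {k : ℕ} {e : N ≃* (Fin k → T)} (h : EPS H N e)
    (l : List (ℕ × ℕ)) (h1 : ∀ x ∈ l, x.1.Prime ∧ 0 < x.2) (h2 : (l.map Prod.fst).Nodup)
    (h5 : ∀ x ∈ l, 5 ≤ x.1 → x.2 = 1) (hc : Nat.card H = (l.map fun x => x.1 ^ x.2).prod) :
    H.index ≤ 1 + ((l.map fun x => gal x.1 x.2).sum * (Nat.card H / 6) + Nat.card H ^ 2 / 60) *
      (2 * (Nat.card H / 6)) :=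
  index_le_of (EPT.ncard_le_list (ept_of_eps h) hg (hab_of_eps h) l h1 h2 h5 hc)
    (Cfsg.Agent.H173.EP.ub1 inferInstance (ept_of_eps h) (by norm_num) fun _ hx => EPT.six_le (ept_of_eps h) (hab_of_eps h) hx) le_rfl

end Cfsg.Agent.H226.EX
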